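import Groth.Agent.FEtEssIm.Main
import Groth.Agent.S1149

/-!
# Spreading isomorphisms of covers from a fibre
-/

set_option autoImplicit false
set_option linter.style.haveILetI false
set_option backward.isDefEq.respectTransparency false
set_option backward.isDefEq.respectTransparency.types false
set_option maxHeartbeats 800000

universe u

open CategoryTheory CategoryTheory.Limits AlgebraicGeometry

noncomputable section

namespace Groth.Agent.FEtSepBC

open Groth.Agent.FEtGal Groth.Agent.FEtExp Groth.Agent.S1149

variable {P : Scheme.{u}} {U V W : FEt.Cat P} (ev : (FEt.restrict (str U)).obj W ⟶ (FEt.restrict (str U)).obj V)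

theorem bijective_fmap_iff {T : Scheme.{u}} (g : T ⟶ P) {K : Type u} [Field K] (t : Spec (CommRingCat.of K) ⟶ T)
    (s : {s : T ⟶ W.left // s ≫ W.hom = g}) :
    Function.Bijective (fmap t (toHom ev g s)) ↔
      Function.Bijective (fun u => evPt ev (ptOf g t s) u) := by
  have h : (fun u => evPt ev (ptOf g t s) u) ∘ basePts g t U = basePts g t V ∘ fmap t (toHom ev g s) :=
    funext fun y => (basePts_toHom ev g s y).symm
  rw [← Function.Bijective.of_comp_iff _ (basePts g t U).bijective, h,
    Function.Bijective.of_comp_iff' (basePts g t V).bijective]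

theorem bijective_evPt_congr {K : Type u} [Field K] {ξ ξ' : Spec (CommRingCat.of K) ⟶ P}
    (w : FEt.fiberObj ξ W) (w' : FEt.fiberObj ξ' W) (he : ξ = ξ') (hw : w.1 = w'.1) :
    Function.Bijective (fun u => evPt ev w u) ↔ Function.Bijective (fun u => evPt ev w' u) := by
  subst he
  rw [Subtype.ext hw]

/-- **an isomorphism on one fibre spreads over a connected cover of the base** -/
theorem exists_iso_of_iso_at_point {B : Scheme.{u}} (q : P ⟶ B) [IsProper q] [Flat q]
    [LocallyOfFinitePresentation q] [GeometricallyConnected q] [GeometricallyReduced q] [ConnectedSpace B]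
    (U V : FEt.Cat P) {Ω : Type u} [Field Ω] (b : Spec (CommRingCat.of Ω) ⟶ B)
    (e : (FEt.restrict (pullback.fst q b)).obj U ≅ (FEt.restrict (pullback.fst q b)).obj V) :
    ∃ T : FEt.Cat B, ConnectedSpace T.left ∧
      Nonempty ((FEt.restrict (pullback.fst q (str T))).obj U ≅ (FEt.restrict (pullback.fst q (str T))).obj V) := by
  haveI : ConnectedSpace P := GeometricallyConnected.connectedSpace q q.isOpenMap
  haveI : ConnectedSpace (pullback q b : Scheme.{u}) :=
    GeometricallyConnected.geometrically_connectedSpace b _ _ (IsPullback.of_hasPullback _ _)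
  obtain ⟨W, ev, hev⟩ := exists_isExp U V
  let g := pullback.fst q b
  obtain ⟨s, hs⟩ := (bijective_toHom ev g hev).2 e.hom
  obtain ⟨x₀⟩ : Nonempty (pullback q b : Scheme.{u}) := inferInstance
  obtain ⟨K, _, _, x, -⟩ := PiSpDesc.exists_geom_point x₀
  letI := galoisCategory (x ≫ g)
  letI := preGaloisCategory P
  haveI := fiberFunctor (x ≫ g)
  obtain ⟨A, i, a, ha, hA, hi⟩ :=
    PreGaloisCategory.fiber_in_connected_component (fibre (x ≫ g)) W (ptOf g x s)
  haveI := hA
  haveI := hi
  haveI := FEtEssIm.connectedSpace_of_isConnected A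
  obtain ⟨hoi, -⟩ := mono_complement i
  haveI := hoi
  haveI : IsFinite i.left := (prop_left i).1
  have hr : Set.range s.1 ⊆ Set.range i.left := by
    refine (isPreconnected_range s.1.continuous).subset_isClopen
      ⟨i.left.isClosedMap.isClosed_range, i.left.isOpenEmbedding.isOpen_range⟩ ?_
    refine ⟨(a.1 ≫ i.left) (pt₀ K), ?_, ⟨a.1 (pt₀ K), (Scheme.Hom.comp_apply _ _ _).symm⟩⟩
    rw [show a.1 ≫ i.left = x ≫ s.1 from congrArg Subtype.val ha, Scheme.Hom.comp_apply]
    exact ⟨_, rfl⟩
  let σ := IsOpenImmersion.lift i.left s.1 hr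
  have hσ : σ ≫ i.left = s.1 := IsOpenImmersion.lift_fac _ _ _
  have hiw : i.left ≫ str W = str A := MorphismProperty.Over.w i
  have hσA : σ ≫ str A = g := by rw [← hiw, ← Category.assoc, hσ]; exact s.2
  obtain ⟨T, ⟨e'⟩⟩ := FEtEssIm.essImage_of_section q A b σ hσA
  haveI : IsIso e'.hom.left := isIso_left e'.hom
  let j : pullback q (str T) ⟶ A.left := (pullbackSymmetry q (str T)).hom ≫ e'.hom.left
  haveI : IsIso j := by
    refine @IsIso.comp_isIso _ _ _ _ _ _ _ inferInstance ?_
    exact isIso_left e'.hom
  have hj : j ≫ str A = pullback.fst q (str T) := by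
    have : e'.hom.left ≫ str A = pullback.snd (str T) q := MorphismProperty.Over.w e'.hom
    simp only [j, Category.assoc, this]
    exact pullbackSymmetry_hom_comp_snd _ _
  haveI : ConnectedSpace (pullback q (str T) : Scheme.{u}) :=
    (asIso j).hom.homeomorph.connectedSpace_iff.2 inferInstance
  haveI : Surjective (pullback.snd q (str T)) := inferInstance
  refine ⟨T, (pullback.snd q (str T)).surjective.connectedSpace (pullback.snd q (str T)).continuous, ?_⟩
  let h := pullback.fst q (str T)
  let ψ := toHom ev h ⟨j ≫ i.left, by rw [Category.assoc]; exact (congrArg (j ≫ ·) hiw).trans hj⟩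
  let t : Spec (CommRingCat.of K) ⟶ pullback q (str T) := x ≫ σ ≫ inv j
  have ht : t ≫ h = x ≫ g := by
    simp only [t, h, ← hj, Category.assoc, IsIso.inv_hom_id_assoc, hσA]
  have hbij : Function.Bijective (fmap t ψ) := by
    rw [bijective_fmap_iff]
    refine (bijective_evPt_congr ev _ (ptOf g x s) ht ?_).2 ((bijective_fmap_iff ev g x s).1 ?_)
    · show t ≫ j ≫ i.left = x ≫ s.1
      simp only [t, Category.assoc, IsIso.inv_hom_id_assoc, hσ]
    · rw [hs]
      exact (isIso_iff_bijective ((FEt.fiber x).map e.hom)).1 inferInstance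
  haveI := isIso_of_bijective_fmap t ψ hbij
  exact ⟨asIso ψ⟩

end Groth.Agent.FEtSepBC
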