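import Groth.Agent.FEtLim.Descend
import Groth.Agent.FEtGal.Coprod
import Mathlib.AlgebraicGeometry.AffineTransitionLimit
import Mathlib.RingTheory.FiniteType

/-!
# Finite étale covers over an algebra come from finitely generated subalgebras
-/

set_option autoImplicit false
set_option linter.style.haveILetI false
set_option backward.isDefEq.respectTransparency false
set_option backward.isDefEq.respectTransparency.types false

universe u

open CategoryTheory CategoryTheory.Limits AlgebraicGeometry

noncomputable section

namespace Groth.Agent.FEtSepBC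

variable (k : Type u) [CommRing k]

/-- the spectrum of an algebra over the ground ring -/
abbrev st (K : Type u) [CommRing K] [Algebra k K] : Spec (CommRingCat.of K) ⟶ Spec (CommRingCat.of k) :=
  Spec.map (CommRingCat.ofHom (algebraMap k K))

variable {k}

/-- the map of spectra of an algebra map -/
abbrev stMap {K L : Type u} [CommRing K] [CommRing L] [Algebra k K] [Algebra k L] (φ : L →ₐ[k] K) :
    Spec (CommRingCat.of K) ⟶ Spec (CommRingCat.of L) :=
  Spec.map (CommRingCat.ofHom φ.toRingHom)

theorem stMap_st {K L : Type u} [CommRing K] [CommRing L] [Algebra k K] [Algebra k L] (φ : L →ₐ[k] K) :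
    stMap φ ≫ st k L = st k K := by
  rw [← Spec.map_comp]
  exact congrArg Spec.map (CommRingCat.hom_ext φ.comp_algebraMap)

variable {X : Scheme.{u}} (f : X ⟶ Spec (CommRingCat.of k))

/-- the map of base changes of an algebra map -/
def bcm {K L : Type u} [CommRing K] [CommRing L] [Algebra k K] [Algebra k L] (φ : L →ₐ[k] K) :
    pullback f (st k K) ⟶ pullback f (st k L) :=
  pullback.lift (pullback.fst _ _) (pullback.snd _ _ ≫ stMap φ)
    (by rw [Category.assoc, stMap_st]; exact pullback.condition)

@[reassoc]
theorem bcm_fst {K L : Type u} [CommRing K] [CommRing L] [Algebra k K] [Algebra k L] (φ : L →ₐ[k] K) :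
    bcm f φ ≫ pullback.fst f (st k L) = pullback.fst f (st k K) := pullback.lift_fst _ _ _

@[reassoc]
theorem bcm_snd {K L : Type u} [CommRing K] [CommRing L] [Algebra k K] [Algebra k L] (φ : L →ₐ[k] K) :
    bcm f φ ≫ pullback.snd f (st k L) = pullback.snd f (st k K) ≫ stMap φ := pullback.lift_snd _ _ _

theorem isPullback_bcm {K L : Type u} [CommRing K] [CommRing L] [Algebra k K] [Algebra k L] (φ : L →ₐ[k] K) :
    IsPullback (bcm f φ) (pullback.snd f (st k K)) (pullback.snd f (st k L)) (stMap φ) :=
  IsPullback.of_right (by rw [bcm_fst, stMap_st]; exact IsPullback.of_hasPullback _ _) (bcm_snd f φ)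
    (IsPullback.of_hasPullback _ _)

variable (k) (K : Type u) [CommRing K] [Algebra k K]

/-- the finitely generated subalgebras -/
abbrev FGSub := {L : Subalgebra k K // L.FG}

instance : IsDirectedOrder (FGSub k K) :=
  ⟨fun L M => ⟨⟨L.1 ⊔ M.1, L.2.sup M.2⟩, (le_sup_left : L.1 ≤ _), (le_sup_right : M.1 ≤ _)⟩⟩

instance : Nonempty (FGSub k K) := ⟨⟨⊥, Subalgebra.fg_bot⟩⟩

variable {k K}

/-- the rings of the system -/
def ringFunctor : FGSub k K ⥤ CommRingCat.{u} where
  obj L := CommRingCat.of L.1
  map h := CommRingCat.ofHom (Subalgebra.inclusion (leOfHom h)).toRingHom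

/-- the cocone of the union -/
def ringCocone : Cocone (ringFunctor (k := k) (K := K)) where
  pt := CommRingCat.of K
  ι := { app := fun L => CommRingCat.ofHom L.1.val.toRingHom }

/-- the union is the colimit -/
def ringIsColimit : IsColimit (ringCocone (k := k) (K := K)) := by
  haveI : PreservesColimit (ringFunctor (k := k) (K := K)) (forget CommRingCat.{u}) :=
    (inferInstance : PreservesFilteredColimits (forget CommRingCat.{u})).preserves_filtered_colimits _ |>.preservesColimit
  haveI : ReflectsColimit (ringFunctor (k := k) (K := K)) (forget CommRingCat.{u}) :=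
    reflectsColimit_of_reflectsIsomorphisms _ _
  refine isColimitOfReflects (forget CommRingCat.{u}) (Types.FilteredColimit.isColimitOf _ _ ?_ ?_)
  · intro x
    exact ⟨⟨Algebra.adjoin k {(show K from x)}, Subalgebra.fg_adjoin_finset {(show K from x)} |>
      fun h => by simpa using h⟩, ⟨(show K from x), Algebra.self_mem_adjoin_singleton k _⟩, rfl⟩
  · intro i j x y h
    obtain ⟨m, him, hjm⟩ := exists_ge_ge i j
    exact ⟨m, homOfLE him, homOfLE hjm, Subtype.ext h⟩

/-- the base changes to the subalgebras -/
def diagram : (FGSub k K)ᵒᵖ ⥤ Scheme.{u} where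
  obj L := pullback f (st k L.unop.1)
  map {L M} h := bcm f (Subalgebra.inclusion (leOfHom h.unop))
  map_id L := by
    apply pullback.hom_ext
    · rw [bcm_fst, Category.id_comp]
    · rw [bcm_snd, Category.id_comp]
      exact (congrArg (_ ≫ ·) (show stMap _ = 𝟙 _ from Spec.map_id _)).trans (Category.comp_id _)
  map_comp {a b c} g h := by
    apply pullback.hom_ext
    · rw [bcm_fst, Category.assoc, bcm_fst, bcm_fst]
    · rw [bcm_snd, Category.assoc, bcm_snd, bcm_snd_assoc, ← Spec.map_comp]
      rfl

/-- their cone -/
def cone : Cone (diagram f (K := K)) where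
  pt := pullback f (st k K)
  π :=
    { app := fun L => bcm f L.unop.1.val
      naturality := fun L M h => by
        show 𝟙 _ ≫ bcm f _ = bcm f _ ≫ bcm f _
        apply pullback.hom_ext
        · rw [Category.id_comp, bcm_fst, Category.assoc, bcm_fst, bcm_fst]
        · rw [Category.id_comp, bcm_snd, Category.assoc, bcm_snd, bcm_snd_assoc, ← Spec.map_comp]
          rfl }

/-- **base change to an algebra is the limit over the finitely generated subalgebras** -/
def isLimitCone : IsLimit (cone f (K := K)) := by
  haveI : IsCofiltered (FGSub k K)ᵒᵖ := isCofiltered_op_of_isFiltered _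
  haveI : IsConnected (FGSub k K)ᵒᵖ := IsCofiltered.isConnected _
  have hs : IsLimit (Scheme.Spec.mapCone (ringCocone (k := k) (K := K)).op) :=
    isLimitOfPreserves Scheme.Spec (ringIsColimit (k := k) (K := K)).op
  let L₀ : (FGSub k K)ᵒᵖ := Opposite.op ⟨⊥, Subalgebra.fg_bot⟩
  let sc : ∀ s : Cone (diagram f (K := K)), Cone ((ringFunctor (k := k) (K := K)).op ⋙ Scheme.Spec) := fun s =>
    { pt := s.pt
      π :=
        { app := fun L => s.π.app L ≫ pullback.snd f (st k L.unop.1)
          naturality := fun L M h => by
            refine (Category.id_comp _).trans ?_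
            rw [← s.w h, Category.assoc]
            exact ((congrArg (s.π.app L ≫ ·) (bcm_snd f (Subalgebra.inclusion (leOfHom h.unop)))).trans
              (Category.assoc _ _ _).symm) } }
  have hfst : ∀ (s : Cone (diagram f (K := K))) (L : (FGSub k K)ᵒᵖ),
      s.π.app L ≫ pullback.fst f (st k L.unop.1) = s.π.app L₀ ≫ pullback.fst f (st k L₀.unop.1) := by
    intro s L
    have h : L ⟶ L₀ := (homOfLE (show L₀.unop.1 ≤ L.unop.1 from bot_le)).op
    rw [← s.w h, Category.assoc]
    exact (congrArg (s.π.app L ≫ ·) (bcm_fst f _)).symm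
  have hst : ∀ L : (FGSub k K)ᵒᵖ, stMap L.unop.1.val ≫ st k L.unop.1 = st k K := fun L => stMap_st _
  let l : ∀ s : Cone (diagram f (K := K)), s.pt ⟶ pullback f (st k K) := fun s =>
    pullback.lift (s.π.app L₀ ≫ pullback.fst _ _) (hs.lift (sc s)) (by
      rw [← hst L₀, ← Category.assoc (hs.lift (sc s))]
      refine Eq.trans ?_ (congrArg (· ≫ st k L₀.unop.1) (hs.fac (sc s) L₀).symm)
      show _ = (s.π.app L₀ ≫ pullback.snd _ _) ≫ _
      rw [Category.assoc, Category.assoc, pullback.condition])
  exact
    { lift := l
      fac := fun s L => by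
        show l s ≫ bcm f _ = _
        apply pullback.hom_ext
        · rw [Category.assoc, bcm_fst, pullback.lift_fst, hfst s L]
        · rw [Category.assoc, bcm_snd, pullback.lift_snd_assoc]
          exact hs.fac (sc s) L
      uniq := fun s m hm => by
        apply pullback.hom_ext
        · rw [pullback.lift_fst, ← hm L₀]
          exact ((Category.assoc _ _ _).trans (congrArg (m ≫ ·) (bcm_fst f _))).symm
        · rw [pullback.lift_snd]
          refine hs.hom_ext fun L => ?_
          refine Eq.trans ?_ (hs.fac (sc s) L).symm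
          show _ = s.π.app L ≫ pullback.snd _ _
          rw [← hm L]
          exact (Category.assoc _ _ _).trans
            (((congrArg (m ≫ ·) (bcm_snd f L.unop.1.val)).symm).trans (Category.assoc _ _ _).symm) }

/-- **a finite étale cover over an algebra comes from a finitely generated subalgebra** -/
theorem exists_stage [CompactSpace X] [QuasiSeparatedSpace X] (V : FEt.Cat (pullback f (st k K))) :
    ∃ (L : Subalgebra k K) (_ : L.FG) (VL : FEt.Cat (pullback f (st k L))),
      Nonempty ((FEt.restrict (bcm f L.val)).obj VL ≅ V) := by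
  haveI : IsCofiltered (FGSub k K)ᵒᵖ := isCofiltered_op_of_isFiltered _
  haveI : ∀ L : (FGSub k K)ᵒᵖ, CompactSpace ((diagram f (K := K)).obj L) := fun L =>
    QuasiCompact.compactSpace_of_compactSpace (pullback.fst f (st k L.unop.1))
  haveI : ∀ L : (FGSub k K)ᵒᵖ, QuasiSeparatedSpace ((diagram f (K := K)).obj L) := fun L =>
    quasiSeparatedSpace_of_quasiSeparated (pullback.fst f (st k L.unop.1))
  haveI : ∀ (i j : (FGSub k K)ᵒᵖ) (h : i ⟶ j), IsAffineHom ((diagram f (K := K)).map h) := fun _ _ h =>
    MorphismProperty.of_isPullback (P := @IsAffineHom) (isPullback_bcm f _).flip inferInstance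
  obtain ⟨L, VL, hVL⟩ := FEtLim.exists_model (diagram f (K := K)) (cone f) (isLimitCone f) V
  exact ⟨L.unop.1, L.unop.2, VL, hVL⟩

end Groth.Agent.FEtSepBC
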