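import Groth.Agent.FEtSepBC.Base
import Groth.Agent.FEtSepBC.Stage
import Groth.Agent.FEtSepBC.Isom
import Groth.Agent.S2535
import Mathlib.RingTheory.Jacobson.Ring
import Mathlib.FieldTheory.IsAlgClosed.Basic

/-!
# Covers of a connected proper scheme do not move under extension of algebraically closed fields
-/

set_option autoImplicit false
set_option linter.style.haveILetI false
set_option backward.isDefEq.respectTransparency false
set_option backward.isDefEq.respectTransparency.types false
set_option maxHeartbeats 800000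

universe u

open CategoryTheory CategoryTheory.Limits AlgebraicGeometry

noncomputable section

namespace Groth.Agent.FEtSepBC

open Groth.Agent.FEtGal

/-- restriction along a composite -/
def restrictCompIso {X Y Z : Scheme.{u}} (a : X ⟶ Y) (b : Y ⟶ Z) (c : X ⟶ Z) (h : c = a ≫ b) (E : FEt.Cat Z) :
    (FEt.restrict c).obj E ≅ (FEt.restrict a).obj ((FEt.restrict b).obj E) :=
  (MorphismProperty.Over.pullbackComp (P := FEt.prop.{u}) (Q := ⊤) a b c h).app E

theorem geometricallyConnected_of_connected {k : Type u} [Field k] [IsSepClosed k] {X : Scheme.{u}}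
    (f : X ⟶ Spec (CommRingCat.of k)) [ConnectedSpace X] : GeometricallyConnected f := by
  refine ⟨fun L _ y Z fst snd H => ?_⟩
  obtain ⟨φ, rfl⟩ := Spec.map_surjective y
  letI : Algebra k L := φ.hom.toAlgebra
  haveI := S0164.connected_pullback f L
  exact H.isoPullback.hom.homeomorph.connectedSpace_iff.2 (inferInstanceAs
    (ConnectedSpace (pullback f (Spec.map (CommRingCat.ofHom (algebraMap k L))) : Scheme.{u})))

theorem geometricallyReduced_of_reduced {k : Type u} [Field k] [PerfectField k] {X : Scheme.{u}}
    (f : X ⟶ Spec (CommRingCat.of k)) [IsReduced X] : GeometricallyReduced f := by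
  haveI : IsIso (Spec.map (CommRingCat.ofHom (algebraMap k k))) := by
    rw [show CommRingCat.ofHom (algebraMap k k) = 𝟙 (CommRingCat.of k) from rfl, Spec.map_id]
    infer_instance
  haveI : AlgebraicGeometry.IsReduced (FBase.bc f k) :=
    isReduced_of_isOpenImmersion (pullback.fst f (Spec.map (CommRingCat.ofHom (algebraMap k k))))
  exact Groth.Agent.S2535.result (Ω := k) f

/-- a point of a connected cover over a separably closed field -/
theorem exists_lift_point {B : Scheme.{u}} [ConnectedSpace B] (T : FEt.Cat B) [ConnectedSpace T.left]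
    {K : Type u} [Field K] [IsSepClosed K] (η : Spec (CommRingCat.of K) ⟶ B) :
    ∃ t : Spec (CommRingCat.of K) ⟶ T.left, t ≫ str T = η := by
  have hsurj : Surjective (str T) := ⟨Set.range_eq_univ.1
    ((IsClopen.eq_univ ⟨(str T).isClosedMap.isClosed_range, (str T).isOpenMap.isOpen_range⟩)
      (Set.range_nonempty _))⟩
  haveI := hsurj
  let Z : FEt.Cat (Spec (CommRingCat.of K)) := (FEt.restrict η).obj T
  haveI : IsLocallyArtinian (Spec (CommRingCat.of K)) := inferInstance
  haveI : LocallyQuasiFinite (str Z) := inferInstance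
  haveI : IsLocallyArtinian Z.left := IsLocallyArtinian.of_locallyQuasiFinite (str Z)
  haveI : DiscreteTopology Z.left := inferInstance
  haveI : Surjective (pullback.snd (str T) η) := MorphismProperty.pullback_snd _ _ hsurj
  obtain ⟨z, -⟩ := (pullback.snd (str T) η).surjective (pt₀ K)
  let O : Z.left.Opens := ⟨{z}, isOpen_discrete _⟩
  let Z₁ := PiSpDesc.sub Z O (isClosed_discrete _)
  haveI : IsFinite (str Z₁) := inferInstance
  haveI : ConnectedSpace O.toScheme := Subtype.connectedSpace (isConnected_singleton (x := z))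
  haveI : ConnectedSpace Z₁.left := ‹ConnectedSpace O.toScheme›
  haveI : HenselianLocalRing K := inferInstance
  haveI : IsSepClosed (IsLocalRing.ResidueField K) := Hensel.isSepClosed_of_ringEquiv
    (RingEquiv.ofBijective (IsLocalRing.residue K) ⟨(IsLocalRing.residue K).injective, IsLocalRing.residue_surjective⟩)
  haveI := FEtEssIm.isIso_of_strictlyHenselian (str Z₁)
  refine ⟨inv (str Z₁) ≫ (PiSpDesc.subHom Z O (isClosed_discrete _)).left ≫ pullback.fst (str T) η, ?_⟩
  rw [Category.assoc, Category.assoc, pullback.condition]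
  have h : (PiSpDesc.subHom Z O (isClosed_discrete _)).left ≫ pullback.snd (str T) η = str Z₁ :=
    MorphismProperty.Over.w (PiSpDesc.subHom Z O (isClosed_discrete _))
  rw [← Category.assoc (PiSpDesc.subHom Z O (isClosed_discrete _)).left, h, IsIso.inv_hom_id_assoc]

theorem exists_algHom (k : Type u) [Field k] [IsAlgClosed k] (L : Type u) [CommRing L] [Nontrivial L] [Algebra k L]
    [Algebra.FiniteType k L] : Nonempty (L →ₐ[k] k) := by
  obtain ⟨m, hm⟩ := Ideal.exists_maximal L
  letI := Ideal.Quotient.field m
  haveI : Module.Finite k (L ⧸ m) := finite_of_finite_type_of_isJacobsonRing k (L ⧸ m)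
  exact ⟨(IsAlgClosed.lift (M := k) (S := L ⧸ m) (R := k)).comp (Ideal.Quotient.mkₐ k m)⟩

/-- **every cover of the base change comes from below, connected reduced case** -/
theorem essSurj_of_connected {k : Type u} [Field k] [IsAlgClosed k] {K : Type u} [Field K] [IsSepClosed K]
    [Algebra k K] {X : Scheme.{u}} (f : X ⟶ Spec (CommRingCat.of k)) [IsProper f] [IsReduced X] [ConnectedSpace X]
    (V : FEt.Cat (pullback f (st k K))) : (FEt.restrict (pullback.fst f (st k K))).essImage V := by
  haveI : CompactSpace X := QuasiCompact.compactSpace_of_compactSpace f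
  haveI : QuasiSeparatedSpace X := quasiSeparatedSpace_of_quasiSeparated f
  obtain ⟨L, hL, VL, ⟨eV⟩⟩ := exists_stage f V
  haveI : Algebra.FiniteType k L := ⟨(Subalgebra.fg_top L).2 hL⟩
  haveI : ConnectedSpace (Spec (CommRingCat.of L)) := inferInstanceAs (ConnectedSpace (PrimeSpectrum L))
  haveI : Flat f := inferInstance
  haveI : LocallyOfFinitePresentation f := inferInstance
  haveI := geometricallyConnected_of_connected f
  haveI := geometricallyReduced_of_reduced f
  let q := pullback.snd f (st k L)
  obtain ⟨φ⟩ := exists_algHom k L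
  let b : Spec (CommRingCat.of k) ⟶ Spec (CommRingCat.of L) := stMap φ
  have hb : b ≫ st k L = 𝟙 _ := (stMap_st φ).trans (Spec.map_id _)
  let σb : X ⟶ pullback f (st k L) :=
    pullback.lift (𝟙 X) (f ≫ b) (by rw [Category.id_comp, Category.assoc, hb, Category.comp_id])
  let W₀ := (FEt.restrict σb).obj VL
  let U := (FEt.restrict (pullback.fst f (st k L))).obj W₀
  let gb := pullback.fst q b
  have hgb : gb = (gb ≫ pullback.fst f (st k L)) ≫ σb := by
    apply pullback.hom_ext
    · simp [σb]
    · simp only [σb, Category.assoc, pullback.lift_snd]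
      rw [pullback.condition_assoc]
      show gb ≫ q = gb ≫ q ≫ st k L ≫ b
      have h1 : gb ≫ q = pullback.snd q b ≫ b := pullback.condition
      rw [reassoc_of% h1, h1, reassoc_of% hb]
  let e : (FEt.restrict gb).obj U ≅ (FEt.restrict gb).obj VL :=
    (restrictCompIso gb (pullback.fst f (st k L)) _ rfl W₀).symm ≪≫
      (restrictCompIso (gb ≫ pullback.fst f (st k L)) σb gb hgb VL).symm
  obtain ⟨T, hT, ⟨eT⟩⟩ := exists_iso_of_iso_at_point q U VL b e
  haveI := hT
  obtain ⟨t, ht⟩ := exists_lift_point T (stMap (K := K) L.val)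
  let κ : pullback f (st k K) ⟶ pullback q (str T) :=
    pullback.lift (bcm f L.val) (pullback.snd f (st k K) ≫ t) (by rw [Category.assoc, ht]; exact bcm_snd f L.val)
  have hκ : bcm f L.val = κ ≫ pullback.fst q (str T) := (pullback.lift_fst _ _ _).symm
  exact ⟨W₀, ⟨restrictCompIso (bcm f L.val) (pullback.fst f (st k L)) _ (bcm_fst f L.val).symm W₀ ≪≫
    restrictCompIso κ (pullback.fst q (str T)) _ hκ U ≪≫ (FEt.restrict κ).mapIso eT ≪≫
    (restrictCompIso κ (pullback.fst q (str T)) _ hκ VL).symm ≪≫ eV⟩⟩

end Groth.Agent.FEtSepBC
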