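import Groth.Agent.FEtEssIm.Conn
import Groth.Agent.S0164
import Mathlib.AlgebraicGeometry.Morphisms.FlatDescent

/-!
# Base change of covers along faithfully flat maps with geometrically connected fibres
-/

set_option autoImplicit false
set_option linter.style.haveILetI false
set_option backward.isDefEq.respectTransparency false
set_option backward.isDefEq.respectTransparency.types false
set_option maxHeartbeats 800000

universe u

open CategoryTheory CategoryTheory.Limits AlgebraicGeometry

noncomputable section

namespace Groth.Agent.FEtSepBC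

open Groth.Agent.FEtGal

/-- **field extensions of a separably closed field are geometrically connected** -/
theorem geometricallyConnected_spec {k K : Type u} [Field k] [IsSepClosed k] [Field K] [Algebra k K] :
    GeometricallyConnected (Spec.map (CommRingCat.ofHom (algebraMap k K))) := by
  refine ⟨fun L _ y Z fst snd H => ?_⟩
  haveI : ConnectedSpace (Spec (CommRingCat.of L)) := S0164.connected_spec_local L
  haveI := S0164.connected_pullback y K
  exact (H.flip.isoPullback).hom.homeomorph.connectedSpace_iff.2 inferInstance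

variable {X' X : Scheme.{u}} (p : X' ⟶ X) [GeometricallyConnected p]

theorem preimage_image_of_clopen (C : Set X') (hC : IsClopen C) : p ⁻¹' (p '' C) = C := by
  refine Set.Subset.antisymm ?_ (Set.subset_preimage_image _ _)
  rintro z ⟨w, hw, he⟩
  have h : _root_.IsPreconnected (p ⁻¹' {p z}) := by
    rw [← Scheme.Hom.range_fiberι]
    exact isPreconnected_range (p.fiberι _).continuous
  exact h.subset_isClopen hC ⟨w, he, hw⟩ rfl

theorem isClopen_image [UniversallyOpen p] (C : Set X') (hC : IsClopen C) : IsClopen (p '' C) := by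
  refine ⟨⟨?_⟩, p.isOpenMap _ hC.isOpen⟩
  convert p.isOpenMap _ hC.isClosed.isOpen_compl using 1
  ext x
  obtain ⟨z, rfl⟩ := p.surjective x
  have h1 := Set.ext_iff.1 (preimage_image_of_clopen p C hC) z
  have h2 := Set.ext_iff.1 (preimage_image_of_clopen p Cᶜ hC.compl) z
  simp only [Set.mem_preimage, Set.mem_compl_iff] at h1 h2 ⊢
  rw [h1, h2]

variable [Flat p] [Surjective p] [QuasiCompact p] [UniversallyOpen p]

omit [GeometricallyConnected p] [UniversallyOpen p] in
theorem faithful_restrict : (FEt.restrict p).Faithful := by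
  refine ⟨fun {E F} {a b} h => hom_ext_left ?_⟩
  have hc : QuasiCompact (pullback.fst (str E) p) := inferInstance
  haveI : Epi (pullback.fst (str E) p) := Flat.epi_of_flat_of_surjective _
  refine (cancel_epi (pullback.fst (str E) p)).1 ?_
  have := congrArg (fun c : (FEt.restrict p).obj E ⟶ (FEt.restrict p).obj F => c.left ≫ pullback.fst (str F) p) h
  exact (pullback.lift_fst _ _ _).symm.trans (this.trans (pullback.lift_fst _ _ _))

/-- **base change along a geometrically connected faithfully flat map is full** -/
theorem full_restrict : (FEt.restrict p).Full := by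
  refine ⟨fun {E F} φ => ?_⟩
  let EK : Scheme.{u} := pullback (str E) p
  let φl : EK ⟶ pullback (str F) p := φ.left
  have hφs : φl ≫ pullback.snd (str F) p = pullback.snd (str E) p := MorphismProperty.Over.w φ
  let P : Scheme.{u} := pullback (str E) (str F)
  let q : P ⟶ X := pullback.fst (str E) (str F) ≫ str E
  let PK : Scheme.{u} := pullback q p
  let γ : EK ⟶ PK := pullback.lift
    (pullback.lift (pullback.fst (str E) p) (φl ≫ pullback.fst (str F) p)
      (by rw [Category.assoc, pullback.condition, pullback.condition, ← Category.assoc φl, hφs]))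
    (pullback.snd (str E) p) (by simp only [q]; rw [pullback.lift_fst_assoc, pullback.condition])
  let r : PK ⟶ EK := pullback.lift (pullback.fst q p ≫ pullback.fst (str E) (str F)) (pullback.snd q p)
    (by rw [Category.assoc]; exact pullback.condition)
  have hsq : IsPullback (pullback.fst q p) r (pullback.fst (str E) (str F)) (pullback.fst (str E) p) :=
    IsPullback.of_bot (by rw [pullback.lift_snd]; exact IsPullback.of_hasPullback q p)
      (pullback.lift_fst _ _ _).symm (IsPullback.of_hasPullback (str E) p)
  haveI : IsFinite r := MorphismProperty.of_isPullback (P := @IsFinite) hsq inferInstance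
  haveI : Etale r := MorphismProperty.of_isPullback (P := @Etale) hsq inferInstance
  have hγ : γ ≫ r = 𝟙 EK := by apply pullback.hom_ext <;> simp [γ, r]
  haveI : IsClosedImmersion (γ ≫ r) := by rw [hγ]; infer_instance
  haveI : IsClosedImmersion γ := IsClosedImmersion.of_comp γ r
  haveI : Etale (γ ≫ r) := by rw [hγ]; infer_instance
  haveI : Etale γ := Etale.of_comp γ r
  haveI : IsOpenImmersion γ := IsOpenImmersion.of_flat_of_mono γ
  have hC : IsClopen (Set.range γ) := ⟨γ.isClosedEmbedding.isClosed_range, γ.isOpenEmbedding.isOpen_range⟩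
  let pr : PK ⟶ P := pullback.fst q p
  let T : P.Opens := ⟨pr '' Set.range γ, (isClopen_image pr _ hC).isOpen⟩
  have hT : pr ⁻¹' (T : Set P) = Set.range γ := preimage_image_of_clopen pr _ hC
  haveI : IsClosedImmersion T.ι := PiSpDesc.isClosedImmersion_ι T (isClopen_image pr _ hC).isClosed
  let t : T.toScheme ⟶ E.left := T.ι ≫ pullback.fst (str E) (str F)
  have hγT : Set.range (γ ≫ pr) ⊆ Set.range T.ι := by
    rw [Scheme.Opens.range_ι]
    rintro _ ⟨z, rfl⟩
    exact ⟨γ z, ⟨z, rfl⟩, (Scheme.Hom.comp_apply γ pr z).symm⟩
  let g : EK ⟶ T.toScheme := IsOpenImmersion.lift T.ι (γ ≫ pr) hγT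
  have hg : g ≫ T.ι = γ ≫ pr := IsOpenImmersion.lift_fac _ _ _
  have hpb : IsPullback g γ T.ι pr := by
    refine IsOpenImmersion.isPullback g γ T.ι pr hg.symm ?_
    ext1
    simp only [Scheme.Hom.coe_opensRange, TopologicalSpace.Opens.map_coe, Scheme.Opens.range_ι]
    exact hT
  have htot : IsPullback g (𝟙 EK) t (pullback.fst (str E) p) := hγ ▸ hpb.paste_vert hsq
  haveI : IsIso t := MorphismProperty.of_isPullback_of_descendsAlong
    (P := MorphismProperty.isomorphisms Scheme.{u}) (Q := @Surjective ⊓ @Flat ⊓ @QuasiCompact)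
    htot.flip ⟨⟨inferInstance, inferInstance⟩, inferInstance⟩ (inferInstanceAs (IsIso (𝟙 EK)))
  let ψ : E.left ⟶ F.left := inv t ≫ T.ι ≫ pullback.snd (str E) (str F)
  have hψ : pullback.fst (str E) p ≫ ψ = φl ≫ pullback.fst (str F) p := by
    have h1 : g ≫ t = pullback.fst (str E) p := by rw [htot.w, Category.id_comp]
    simp only [ψ]
    rw [← h1, Category.assoc, IsIso.hom_inv_id_assoc, reassoc_of% hg]
    simp [γ, pr]
  have hψw : ψ ≫ str F = str E := by
    simp only [ψ, Category.assoc, ← pullback.condition]
    rw [← Category.assoc T.ι]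
    exact IsIso.inv_hom_id_assoc t _
  refine ⟨MorphismProperty.Over.homMk ψ hψw, hom_ext_left (pullback.hom_ext ?_ ?_)⟩
  · exact (pullback.lift_fst _ _ _).trans hψ
  · exact (pullback.lift_snd _ _ _).trans hφs.symm

/-- a cover is a base change of a cover -/
def Desc {X' X : Scheme.{u}} (p : X' ⟶ X) {V : Scheme.{u}} (v : V ⟶ X') : Prop :=
  ∃ (W : FEt.Cat X) (a : V ⟶ W.left), IsPullback a v (str W) p

omit [GeometricallyConnected p] [Flat p] [Surjective p] [QuasiCompact p] [UniversallyOpen p] in
theorem essImage_iff (V : FEt.Cat X') : (FEt.restrict p).essImage V ↔ Desc p (str V) := by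
  constructor
  · rintro ⟨W, ⟨e⟩⟩
    haveI : IsIso e.inv.left := isIso_left e.inv
    have hw : e.inv.left ≫ pullback.snd (str W) p = str V := MorphismProperty.Over.w e.inv
    refine ⟨W, e.inv.left ≫ pullback.fst (str W) p, IsPullback.of_iso_pullback ⟨?_⟩ (asIso e.inv.left) rfl hw⟩
    rw [Category.assoc, pullback.condition, ← Category.assoc]
    exact congrArg (· ≫ p) hw
  · rintro ⟨W, a, h⟩
    exact ⟨W, ⟨MorphismProperty.Over.isoMk h.isoPullback.symm h.isoPullback_inv_snd⟩⟩

end Groth.Agent.FEtSepBC
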