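import Groth.Agent.FEtSepBC.Main
import Groth.Agent.DvrDom.ClosedProper

/-!
# The equivalence for separably closed fields
-/

set_option autoImplicit false
set_option linter.style.haveILetI false
set_option backward.isDefEq.respectTransparency false
set_option backward.isDefEq.respectTransparency.types false
set_option maxHeartbeats 800000

universe u

open CategoryTheory CategoryTheory.Limits AlgebraicGeometry

noncomputable section

namespace Groth.Agent.FEtSepBC

/-- universal homeomorphisms in the sense of the invariance theorem -/
abbrev uh : MorphismProperty Scheme.{u} := @IsIntegralHom ⊓ @UniversallyInjective ⊓ @Surjective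

theorem isEquivalence_of_uh {X Y : Scheme.{u}} (g : X ⟶ Y) (h : uh g) : (FEt.restrict g).IsEquivalence :=
  haveI := h.1.1
  haveI := h.1.2
  haveI := h.2
  Groth.Agent.S0289.result g

theorem uh_spec (F : Type u) [Field F] [IsSepClosed F] :
    uh (Spec.map (CommRingCat.ofHom (algebraMap F (AlgebraicClosure F)))) :=
  ⟨⟨IsIntegralHom.SpecMap_iff.mpr (algebraMap_isIntegral_iff.mpr inferInstance), GeomConnSep.universallyInjective_spec⟩,
    ⟨Function.surjective_to_subsingleton (α := Spec (CommRingCat.of (AlgebraicClosure F))) (β := PrimeSpectrum F) _⟩⟩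

/-- **covers of a proper scheme over a separably closed field do not change under extension** -/
theorem isEquivalence_sepClosed (k K : Type u) [Field k] [Field K] [IsSepClosed k] [IsSepClosed K] [Algebra k K]
    {X : Scheme.{u}} (f : X ⟶ Spec (CommRingCat.of k)) [IsProper f] :
    (FEt.restrict (pullback.fst f (st k K))).IsEquivalence := by
  let a := st k (AlgebraicClosure k)
  let t : Spec (CommRingCat.of (AlgebraicClosure K)) ⟶ Spec (CommRingCat.of K) :=
    Spec.map (CommRingCat.ofHom (algebraMap K (AlgebraicClosure K)))
  letI : Algebra k (AlgebraicClosure K) := ((algebraMap K (AlgebraicClosure K)).comp (algebraMap k K)).toAlgebra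
  let φ : AlgebraicClosure k →ₐ[k] AlgebraicClosure K := IsAlgClosed.lift
  letI : Algebra (AlgebraicClosure k) (AlgebraicClosure K) := φ.toRingHom.toAlgebra
  let s' := st (AlgebraicClosure k) (AlgebraicClosure K)
  have hsa : s' ≫ a = t ≫ st k K := by
    rw [← Spec.map_comp, ← Spec.map_comp]
    exact congrArg Spec.map (CommRingCat.hom_ext φ.comp_algebraMap)
  let Xb : Scheme.{u} := pullback f a
  let I := Scheme.IdealSheafData.vanishingIdeal (X := Xb) ⊤
  haveI : IsReduced I.subscheme := DvrDom.isReduced_vanishingIdeal_subscheme _
  haveI : IsClosedImmersion I.subschemeι := inferInstance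
  haveI hcs : Surjective I.subschemeι := ⟨Set.range_eq_univ.1 (by
    rw [Scheme.IdealSheafData.range_subschemeι]
    simp [I])⟩
  have hc : uh I.subschemeι := ⟨⟨inferInstance, inferInstance⟩, hcs⟩
  let f' := I.subschemeι ≫ pullback.snd f a
  haveI : IsProper (pullback.snd f a) := inferInstance
  haveI : IsProper f' := inferInstance
  haveI := isEquivalence_of_reduced (K := AlgebraicClosure K) f'
  let r := I.subschemeι ≫ pullback.fst f a
  have hr : uh r := MorphismProperty.comp_mem _ _ _ hc (MorphismProperty.pullback_fst _ _ (uh_spec k))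
  let Y : Scheme.{u} := pullback f (t ≫ st k K)
  let v : Y ⟶ pullback f (st k K) := pullback.lift (pullback.fst _ _) (pullback.snd _ _ ≫ t)
    (by rw [Category.assoc]; exact pullback.condition)
  have hv : uh v := MorphismProperty.of_isPullback (P := uh)
    (show IsPullback (pullback.snd f (t ≫ st k K)) v t (pullback.snd f (st k K)) from
      (IsPullback.of_right (by rw [pullback.lift_fst]; exact IsPullback.of_hasPullback f (t ≫ st k K))
        (pullback.lift_snd _ _ _) (IsPullback.of_hasPullback f (st k K))).flip) (uh_spec K)
  let w : Y ⟶ Xb := pullback.lift (pullback.fst _ _) (pullback.snd _ _ ≫ s')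
    (by rw [Category.assoc, hsa]; exact pullback.condition)
  have hw : IsPullback w (pullback.snd f (t ≫ st k K)) (pullback.snd f a) s' :=
    IsPullback.of_right (by rw [pullback.lift_fst, hsa]; exact IsPullback.of_hasPullback f (t ≫ st k K))
      (pullback.lift_snd _ _ _) (IsPullback.of_hasPullback f a)
  let u : pullback f' s' ⟶ Y := pullback.lift (pullback.fst f' s' ≫ r) (pullback.snd f' s') (by
    rw [← hsa]
    simp only [r, Category.assoc, pullback.condition]
    simpa [f'] using congrArg (· ≫ a) (pullback.condition (f := f') (g := s')))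
  have hu : IsPullback (pullback.fst f' s') u I.subschemeι w := by
    refine IsPullback.of_bot (by rw [pullback.lift_snd]; exact IsPullback.of_hasPullback f' s') ?_ hw
    apply pullback.hom_ext
    · simp [u, w, r]
    · simp only [u, w, Category.assoc, pullback.lift_snd, pullback.lift_snd_assoc]
      exact pullback.condition
  have huv : uh (u ≫ v) := MorphismProperty.comp_mem _ _ _ (MorphismProperty.of_isPullback (P := uh) hu hc) hv
  have hsq : (u ≫ v) ≫ pullback.fst f (st k K) = pullback.fst f' s' ≫ r := by
    simp only [u, v, Category.assoc, pullback.lift_fst]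
  haveI := isEquivalence_of_uh (u ≫ v) huv
  haveI := isEquivalence_of_uh r hr
  let e : FEt.restrict r ⋙ FEt.restrict (pullback.fst f' s') ≅
      FEt.restrict (pullback.fst f (st k K)) ⋙ FEt.restrict (u ≫ v) :=
    (MorphismProperty.Over.pullbackComp (P := FEt.prop.{u}) (Q := ⊤) (pullback.fst f' s') r _ rfl).symm ≪≫
      MorphismProperty.Over.pullbackCongr hsq.symm ≪≫
      MorphismProperty.Over.pullbackComp (P := FEt.prop.{u}) (Q := ⊤) (u ≫ v) (pullback.fst f (st k K)) _ rfl
  haveI : (FEt.restrict (pullback.fst f (st k K)) ⋙ FEt.restrict (u ≫ v)).IsEquivalence :=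
    Functor.isEquivalence_of_iso e
  exact Functor.isEquivalence_of_comp_right _ (FEt.restrict (u ≫ v))

end Groth.Agent.FEtSepBC
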