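import Groth.Agent.FEtSepBC.Connected
import Groth.Agent.S0289

/-!
# Covers of a proper scheme do not move under extension of separably closed fields
-/

set_option autoImplicit false
set_option linter.style.haveILetI false
set_option backward.isDefEq.respectTransparency false
set_option backward.isDefEq.respectTransparency.types false
set_option maxHeartbeats 800000

universe u

open CategoryTheory CategoryTheory.Limits AlgebraicGeometry TopologicalSpace

noncomputable section

namespace Groth.Agent.FEtSepBC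

open Groth.Agent.FEtGal

variable {k : Type u} [Field k] [IsAlgClosed k] {K : Type u} [Field K] [IsSepClosed K]
  [Algebra k K] {X : Scheme.{u}} (f : X ⟶ Spec (CommRingCat.of k)) [IsProper f] [IsReduced X]

omit [IsSepClosed K] [IsReduced X] [IsProper f] in
theorem props_fst : GeometricallyConnected (pullback.fst f (st k K)) ∧ UniversallyOpen (pullback.fst f (st k K)) ∧
    Flat (pullback.fst f (st k K)) ∧ Surjective (pullback.fst f (st k K)) ∧ QuasiCompact (pullback.fst f (st k K)) := by
  haveI : GeometricallyConnected (st k K) := geometricallyConnected_spec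
  haveI : UniversallyOpen (st k K) := Groth.Agent.GrpField.PointBase.uopen _ _
  haveI : Surjective (st k K) := Groth.Agent.GrpField.PointBase.surj _ _
  haveI : Flat (st k K) := inferInstance
  exact ⟨inferInstance, MorphismProperty.pullback_fst _ _ inferInstance, inferInstance, inferInstance, inferInstance⟩

theorem essImage_of_connectedSpace (V : FEt.Cat (pullback f (st k K))) [ConnectedSpace V.left] :
    (FEt.restrict (pullback.fst f (st k K))).essImage V := by
  obtain ⟨h1, h2, h3, h4, h5⟩ := props_fst f (K := K)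
  let pr := pullback.fst f (st k K)
  haveI : GeometricallyConnected pr := h1
  haveI : UniversallyOpen pr := h2
  have hC : IsClopen (Set.range (str V)) :=
    ⟨(str V).isClosedMap.isClosed_range, (str V).isOpenMap.isOpen_range⟩
  have hD : IsClopen (pr '' Set.range (str V)) := isClopen_image pr _ hC
  let O : X.Opens := ⟨_, hD.isOpen⟩
  haveI : IsClosedImmersion O.ι := PiSpDesc.isClosedImmersion_ι O hD.isClosed
  haveI : IsProper (O.ι ≫ f) := inferInstance
  haveI : IsReduced O.toScheme := inferInstance
  haveI : ConnectedSpace O.toScheme :=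
    Subtype.connectedSpace (isConnected_range (str V).continuous |>.image pr pr.continuous.continuousOn)
  let pr' := pullback.fst (O.ι ≫ f) (st k K)
  let jO : pullback (O.ι ≫ f) (st k K) ⟶ pullback f (st k K) :=
    pullback.lift (pr' ≫ O.ι) (pullback.snd _ _) (by rw [Category.assoc, pullback.condition])
  have hsq : IsPullback pr' jO O.ι pr :=
    IsPullback.of_bot (by rw [pullback.lift_snd]; exact IsPullback.of_hasPullback (O.ι ≫ f) (st k K))
      (pullback.lift_fst _ _ _).symm (IsPullback.of_hasPullback f (st k K))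
  have hO : FEt.prop O.ι := ⟨inferInstance, inferInstance⟩
  have hjO : FEt.prop jO := MorphismProperty.of_isPullback hsq hO
  haveI : IsOpenImmersion jO := MorphismProperty.of_isPullback (P := @IsOpenImmersion) hsq inferInstance
  have hr : Set.range (str V) ⊆ Set.range jO := by
    rw [← hsq.flip.isoPullback_hom_fst]
    rintro z hz
    have hmem : pr z ∈ Set.range O.ι := by rw [Scheme.Opens.range_ι]; exact ⟨z, hz, rfl⟩
    obtain ⟨o, ho⟩ := hmem
    obtain ⟨w, hw, -⟩ := Scheme.Pullback.exists_preimage_pullback (f := pr) (g := O.ι) z o ho.symm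
    refine ⟨hsq.flip.isoPullback.inv w, ?_⟩
    rw [← Scheme.Hom.comp_apply, Iso.inv_hom_id_assoc]
    exact hw
  let v' : V.left ⟶ pullback (O.ι ≫ f) (st k K) := IsOpenImmersion.lift jO (str V) hr
  have hv' : v' ≫ jO = str V := IsOpenImmersion.lift_fac _ _ _
  have hp : FEt.prop v' := MorphismProperty.of_postcomp FEt.prop v' jO hjO (by rw [hv']; exact V.prop)
  let V' : FEt.Cat (pullback (O.ι ≫ f) (st k K)) := MorphismProperty.Over.mk ⊤ v' hp
  obtain ⟨W', a, ha⟩ := (essImage_iff pr' V').1 (essSurj_of_connected (O.ι ≫ f) V')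
  let W : FEt.Cat X := MorphismProperty.Over.mk ⊤ (str W' ≫ O.ι) (FEt.prop.{u}.comp_mem _ _ W'.prop hO)
  refine (essImage_iff pr V).2 ⟨W, a, ?_⟩
  have h := ha.paste_vert hsq
  rw [show str V' ≫ jO = str V from hv'] at h
  exact h

theorem essImage_all [CompactSpace X] (V : FEt.Cat (pullback f (st k K))) :
    (FEt.restrict (pullback.fst f (st k K))).essImage V := by
  obtain ⟨h1, h2, h3, h4, h5⟩ := props_fst f (K := K)
  haveI : IsLocallyNoetherian V.left := LocallyOfFiniteType.isLocallyNoetherian (str V ≫ pullback.snd f (st k K))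
  haveI : CompactSpace V.left := QuasiCompact.compactSpace_of_compactSpace (str V ≫ pullback.snd f (st k K))
  haveI : IsNoetherian V.left := {}
  suffices key : ∀ (C : Closeds V.left) (E : FEt.Cat (pullback f (st k K))) (u : E ⟶ V),
      IsOpenImmersion u.left → Set.range u.left = C → (FEt.restrict (pullback.fst f (st k K))).essImage E from
    key ⊤ V (𝟙 V) (inferInstanceAs (IsOpenImmersion (𝟙 V.left))) (Set.range_eq_univ.2 fun x => ⟨x, rfl⟩)
  intro C
  induction C using WellFoundedLT.induction with
  | ind C ih =>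
  intro E u hu hur
  rcases isEmpty_or_nonempty E.left with hE | hE
  · exact ⟨emptyObj X, ⟨(isInitialCover _ (isEmpty_restrict (pullback.fst f (st k K)) _ isEmpty_emptyScheme)).uniqueUpToIso
      (isInitialCover E hE)⟩⟩
  by_cases hc : ConnectedSpace E.left
  · exact essImage_of_connectedSpace f E
  obtain ⟨S₁, hS₁, hne, hne'⟩ : ∃ S₁ : Set E.left, IsClopen S₁ ∧ S₁.Nonempty ∧ S₁ᶜ.Nonempty := by
    by_contra hh
    simp only [not_exists, not_and, Set.not_nonempty_iff_eq_empty] at hh
    refine hc (connectedSpace_iff_clopen.2 ⟨hE, fun S₁ hS₁ => ?_⟩)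
    rcases Set.eq_empty_or_nonempty S₁ with h | h
    · exact .inl h
    · exact .inr (Set.compl_empty_iff.1 (hh S₁ hS₁ h))
  have hcl : ∀ S : Set E.left, IsClopen S → Sᶜ.Nonempty → ∀ (hS : IsOpen S) (hS' : IsClosed S),
      (FEt.restrict (pullback.fst f (st k K))).essImage (PiSpDesc.sub E ⟨S, hS⟩ hS') := by
    intro S hS hSne hSo hSc
    haveI : IsFinite u.left := (prop_left u).1
    let C₁ : Closeds V.left := ⟨u.left '' S, u.left.isClosedMap _ hSc⟩
    have hlt : C₁ < C := by
      refine lt_of_le_of_ne (fun y hy => ?_) fun h => ?_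
      · show y ∈ (C : Set V.left)
        rw [← hur]
        exact Set.image_subset_range _ _ hy
      · obtain ⟨z, hz⟩ := hSne
        have : u.left z ∈ (C₁ : Set V.left) := by rw [h, ← hur]; exact ⟨z, rfl⟩
        obtain ⟨w, hw, hwz⟩ := this
        exact hz (u.left.isOpenEmbedding.injective hwz ▸ hw)
    refine ih C₁ hlt _ (PiSpDesc.subHom E ⟨S, hSo⟩ hSc ≫ u) ?_ ?_
    · rw [MorphismProperty.Comma.comp_left]
      infer_instance
    · rw [MorphismProperty.Comma.comp_left]
      show Set.range (⇑((PiSpDesc.subHom E ⟨S, hSo⟩ hSc).left ≫ u.left)) = u.left '' S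
      rw [Scheme.Hom.comp_base, TopCat.coe_comp, Set.range_comp]
      exact congrArg _ (PiSpDesc.range_subHom E ⟨S, hSo⟩ hSc)
  obtain ⟨W₁, ⟨e₁⟩⟩ := hcl S₁ hS₁ hne' hS₁.isOpen hS₁.isClosed
  obtain ⟨W₂, ⟨e₂⟩⟩ := hcl S₁ᶜ hS₁.compl (by rw [compl_compl]; exact hne) hS₁.compl.isOpen hS₁.compl.isClosed
  obtain ⟨hcol⟩ := nonempty_isColimit_of_isCompl (PiSpDesc.subHom E ⟨S₁, hS₁.isOpen⟩ hS₁.isClosed)
    (PiSpDesc.subHom E ⟨S₁ᶜ, hS₁.compl.isOpen⟩ hS₁.compl.isClosed)
    (by rw [PiSpDesc.range_subHom, PiSpDesc.range_subHom]; exact isCompl_compl)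
  exact ⟨W₁ ⨿ W₂, ⟨(PreservesColimitPair.iso (FEt.restrict (pullback.fst f (st k K))) W₁ W₂).symm ≪≫
    coprod.mapIso e₁ e₂ ≪≫ (coprodIsCoprod _ _).coconePointUniqueUpToIso hcol⟩⟩

/-- **extensions of algebraically closed fields: the reduced case** -/
theorem isEquivalence_of_reduced : (FEt.restrict (pullback.fst f (st k K))).IsEquivalence := by
  obtain ⟨h1, h2, h3, h4, h5⟩ := props_fst f (K := K)
  haveI := h1
  haveI := h2
  haveI : CompactSpace X := QuasiCompact.compactSpace_of_compactSpace f
  haveI := faithful_restrict (pullback.fst f (st k K))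
  haveI := full_restrict (pullback.fst f (st k K))
  haveI : (FEt.restrict (pullback.fst f (st k K))).EssSurj := ⟨essImage_all f⟩
  exact { }

end Groth.Agent.FEtSepBC
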